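import Mathlib
import Cfsg.Agent.FGS76.CountThree

/-!
Elementary arithmetic of the same-order class sizes (`FGS76.ordCount`, which is `0` at
non-orders), used to recognise `A₄`, `A₅`, `A₆`.
-/

set_option autoImplicit false
set_option linter.style.haveILetI false

namespace Cfsg.Agent.NSEAlt69

open Subgroup Cfsg.Agent.FGS76

variable {G : Type*} [Group G] [Finite G]

theorem mem_iff {m : ℕ} : m ∈ ordSet G ↔ ordCount G m ≠ 0 := by
  refine ⟨fun h => (ordCount_pos h).ne', fun h => ?_⟩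
  obtain ⟨⟨g, hg⟩⟩ : Nonempty {g : G // orderOf g = m} := (Nat.card_ne_zero.1 h).1
  exact mem_ordSet.2 ⟨g, hg⟩

theorem eq_zero_of_dvd {m k : ℕ} (hd : m ∣ k) (h : ordCount G m = 0) : ordCount G k = 0 := by
  by_contra hk
  exact mem_iff.1 (ordSet_closed (mem_iff.2 hk) hd) h

theorem ne_zero_of_dvd {m k : ℕ} (hd : m ∣ k) (h : ordCount G k ≠ 0) : ordCount G m ≠ 0 :=
  fun h0 => h (eq_zero_of_dvd hd h0)

theorem dvd_card {m : ℕ} (h : ordCount G m ≠ 0) : m ∣ Nat.card G :=
  dvd_card_of_mem_ordSet (mem_iff.2 h)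

theorem prime_ne_zero {p : ℕ} (hp : p.Prime) (h : p ∣ Nat.card G) : ordCount G p ≠ 0 := by
  haveI := Fact.mk hp
  exact mem_iff.1 (mem_ordSet.2 (exists_prime_orderOf_dvd_card' p h))

/-- Frobenius, summed over all divisors -/
theorem dvd_sum_divisors {N : ℕ} (hN : N ∣ Nat.card G) :
    N ∣ ∑ d ∈ N.divisors, ordCount G d := by
  have h := dvd_sum_ordCount hN
  have hN0 : N ≠ 0 := fun h0 => Nat.card_pos.ne' (Nat.eq_zero_of_zero_dvd (h0 ▸ hN))
  convert h using 1
  refine (Finset.sum_subset (fun d hd => ?_) fun d hd hd' => ?_).symm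
  · exact Nat.mem_divisors.2 ⟨(Finset.mem_filter.1 hd).2, hN0⟩
  · by_contra hne
    exact hd' (Finset.mem_filter.2 ⟨mem_iff.2 hne, (Nat.mem_divisors.1 hd).1⟩)

theorem dvd_sum_divisors' {N : ℕ} (hN : ordCount G N ≠ 0) :
    N ∣ ∑ d ∈ N.divisors, ordCount G d := dvd_sum_divisors (dvd_card hN)

theorem card_eq_sum {T : Finset ℕ} (hT : ∀ m ∈ ordSet G, m ∈ T) :
    Nat.card G = ∑ m ∈ T, ordCount G m := by
  rw [card_eq_sum_ordCount]
  refine Finset.sum_subset hT fun m _ hm => ?_
  by_contra h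
  exact hm (mem_iff.2 h)

/-- every element order divides `L` once the first excessive prime powers are not orders -/
theorem order_dvd {L : ℕ} (hL : L ≠ 0)
    (hb : ∀ p : ℕ, p.Prime → p ∣ Nat.card G → ordCount G (p ^ (L.factorization p + 1)) = 0) :
    ∀ m ∈ ordSet G, m ∣ L := by
  intro m hm
  have hmG := dvd_card_of_mem_ordSet hm
  have hm0 : m ≠ 0 := fun h0 => Nat.card_pos.ne' (Nat.eq_zero_of_zero_dvd (h0 ▸ hmG))
  rw [← Nat.factorization_le_iff_dvd hm0 hL, Finsupp.le_def]
  intro p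
  by_contra hlt
  have hpf : p ∈ m.factorization.support := Finsupp.mem_support_iff.2 (by omega)
  rw [Nat.support_factorization, Nat.mem_primeFactors] at hpf
  have hd : p ^ (L.factorization p + 1) ∣ m :=
    (pow_dvd_pow p (by omega)).trans (Nat.ordProj_dvd m p)
  exact mem_iff.1 (ordSet_closed hm hd) (hb p hpf.1 (hpf.2.1.trans hmG))

/-- if the centralizer of no element of order `m` meets order `p`, then `p ∣ #(order m)` -/
theorem dvd_of_mul_eq_zero {m p : ℕ} (hp : p.Prime) (hpG : p ∣ Nat.card G) (hpm : ¬ p ∣ m)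
    (h : ordCount G (m * p) = 0) : p ∣ ordCount G m :=
  prime_dvd_ordCount hp hpG hpm fun hmem => mem_iff.1 hmem h

/-- an element of prime order with centralizer of order `p` -/
theorem card_dvd {p : ℕ} (hp : p.Prime) (hp2 : ¬ p ^ 2 ∣ Nat.card G)
    (hno : ∀ r : ℕ, r.Prime → r ≠ p → r ∣ Nat.card G → ordCount G (p * r) = 0)
    (hpS : ordCount G p ≠ 0) : Nat.card G ∣ p * ordCount G p := by
  classical
  haveI := Fintype.ofFinite G
  have hC : ∀ y : G, orderOf y = p → Nat.card (centralizer ({y} : Set G)) = p := by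
    intro y hy
    set C := centralizer ({y} : Set G) with hCdef
    have hpC : p ∣ Nat.card C := by
      rw [← hy, ← Nat.card_zpowers]
      exact card_dvd_of_le (by rw [zpowers_le, hCdef, mem_centralizer_singleton_iff])
    have hu : ∀ r : ℕ, r.Prime → r ∣ Nat.card C → r = p := by
      intro r hr hrC
      by_contra hne
      haveI := Fact.mk hr
      obtain ⟨z, hz⟩ := exists_prime_orderOf_dvd_card' r hrC
      have hc : Commute (z : G) y := mem_centralizer_singleton_iff.1 z.2
      refine mem_iff.1 (mem_ordSet.2 ⟨y * (z : G), ?_⟩)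
        (hno r hr hne (hrC.trans (card_subgroup_dvd_card C)))
      rw [hc.symm.orderOf_mul_eq_mul_orderOf_of_coprime (by
        rw [hy, Subgroup.orderOf_coe, hz]; exact (Nat.coprime_primes hp hr).2 (Ne.symm hne)),
        hy, Subgroup.orderOf_coe, hz]
    have hk := Nat.eq_prime_pow_of_unique_prime_dvd (n := Nat.card C) (p := p) Nat.card_pos.ne'
      (fun {d} hd hdC => hu d hd hdC)
    rcases hlen : (Nat.card C).primeFactorsList.length with _ | _ | k
    · rw [hlen, pow_zero] at hk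
      rw [hk] at hpC
      exact absurd hpC hp.not_dvd_one
    · rw [hlen, pow_one] at hk
      exact hk
    · rw [hlen] at hk
      refine absurd ?_ hp2
      exact (pow_dvd_pow p (by omega : 2 ≤ k + 1 + 1)).trans
        (hk ▸ card_subgroup_dvd_card C)
  have hpG := dvd_card hpS
  have h1 : Nat.card G / p ∣ ordCount G p := by
    rw [ordCount, Nat.card_eq_fintype_card (α := {g : G // orderOf g = p}), Fintype.card_subtype,
      Finset.card_eq_sum_ones]
    refine dvd_sum_of_conj_inv _ ?_ (fun _ => 1) (fun _ _ => rfl) ?_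
    · intro g y hy
      simp only [Finset.mem_filter, Finset.mem_univ, true_and] at hy ⊢
      rwa [← MulAut.conj_apply, MulEquiv.orderOf_eq]
    · intro y hy
      simp only [Finset.mem_filter, Finset.mem_univ, true_and] at hy
      rw [mul_one, ← Subgroup.card_mul_index (centralizer ({y} : Set G)), hC y hy,
        Nat.mul_div_cancel_left _ hp.pos]
  calc Nat.card G = p * (Nat.card G / p) := (Nat.mul_div_cancel' hpG).symm
    _ ∣ p * ordCount G p := Nat.mul_dvd_mul_left p h1

/-- cyclic Sylow subgroup: roots of elements of order `p ^ k` -/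
theorem mul_le_of_cyclic {p k : ℕ} (hp : p.Prime) (hk : 1 ≤ k)
    (hfull : ¬ p ^ (k + 2) ∣ Nat.card G) (hS : ordCount G (p ^ (k + 1)) ≠ 0) :
    p * ordCount G (p ^ k) ≤ ordCount G (p ^ (k + 1)) := by
  classical
  haveI := Fact.mk hp
  obtain ⟨w, hw⟩ := mem_ordSet.1 (mem_iff.2 hS)
  have hcard : ∀ Q : Sylow p G, Nat.card (Q : Subgroup G) = p ^ (k + 1) := by
    intro Q
    rw [Sylow.card_eq_multiplicity]
    congr 1
    refine le_antisymm ?_ ((hp.pow_dvd_iff_le_factorization Nat.card_pos.ne').1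
      (hw ▸ orderOf_dvd_natCard w))
    by_contra hlt
    exact hfull ((hp.pow_dvd_iff_le_factorization Nat.card_pos.ne').2 (by omega))
  have hw' : IsPGroup p (zpowers w) := IsPGroup.of_card (n := k + 1) (by rw [Nat.card_zpowers, hw])
  obtain ⟨Q₀, hQ₀⟩ := hw'.exists_le_sylow
  have hQ₀w : (Q₀ : Subgroup G) = zpowers w :=
    (eq_of_le_of_card_ge hQ₀ (by rw [hcard Q₀, Nat.card_zpowers, hw])).symm
  have hcyc : ∀ Q : Sylow p G, IsCyclic (Q : Subgroup G) := fun Q => by
    haveI : IsCyclic (Q₀ : Subgroup G) := by rw [hQ₀w]; infer_instance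
    exact (Sylow.equiv Q₀ Q).isCyclic.1 inferInstance
  have hroot : ∀ x : G, orderOf x = p ^ k → ∃ z : G, z ^ p = x := by
    intro x hx
    have hx' : IsPGroup p (zpowers x) := IsPGroup.of_card (n := k) (by rw [Nat.card_zpowers, hx])
    obtain ⟨Q, hQ⟩ := hx'.exists_le_sylow
    haveI := hcyc Q
    obtain ⟨y, hy⟩ := IsCyclic.exists_monoid_generator (α := (Q : Subgroup G))
    have hyo : orderOf y = p ^ (k + 1) := by
      rw [← hcard Q]
      exact orderOf_eq_card_of_forall_mem_zpowers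
        fun t => mem_powers_iff_mem_zpowers.1 (hy t)
    obtain ⟨j, hj⟩ := hy ⟨x, hQ (mem_zpowers x)⟩
    simp only at hj
    have hxo : orderOf (y ^ j) = p ^ k := by rw [hj, Subgroup.orderOf_mk, hx]
    by_cases hpj : p ∣ j
    · obtain ⟨i, rfl⟩ := hpj
      refine ⟨((y ^ i : (Q : Subgroup G)) : G), ?_⟩
      rw [← Subgroup.coe_pow, ← pow_mul, mul_comm i p, hj]
    · exfalso
      rw [(Nat.Coprime.orderOf_pow (by
        rw [hyo]; exact Nat.Coprime.pow_left _ ((hp.coprime_iff_not_dvd).2 hpj))), hyo] at hxo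
      have := Nat.pow_right_injective hp.two_le hxo
      omega
  choose r hr using hroot
  let u : G → G := fun x => x ^ p ^ (k - 1)
  have hu : ∀ x : G, orderOf x = p ^ k → orderOf (u x) = p := by
    intro x hx
    rw [orderOf_pow' x (pow_ne_zero _ hp.ne_zero), hx,
      Nat.gcd_eq_right (pow_dvd_pow p (Nat.sub_le k 1)), Nat.pow_div (Nat.sub_le k 1) hp.pos,
      show k - (k - 1) = 1 by omega, pow_one]
  have hup : ∀ x : G, orderOf x = p ^ k → u x ^ p = 1 := fun x hx =>
    orderOf_dvd_iff_pow_eq_one.1 (dvd_of_eq (hu x hx))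
  have hcx : ∀ (x : G) (hx : orderOf x = p ^ k) (i : ℕ), (r x hx * u x ^ i) ^ p = x := by
    intro x hx i
    have hc0 : Commute (r x hx) ((r x hx ^ p) ^ p ^ (k - 1)) :=
      ((Commute.refl _).pow_right _).pow_right _
    rw [hr] at hc0
    rw [(hc0.pow_right i).mul_pow, hr, pow_right_comm, hup x hx, one_pow, mul_one]
  have hroot' : ∀ (x : G) (hx : orderOf x = p ^ k) (i : ℕ),
      orderOf (r x hx * u x ^ i) = p ^ (k + 1) := by
    intro x hx i
    have hpk : p ^ k = p * p ^ (k - 1) := by rw [← pow_succ', Nat.sub_add_cancel hk]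
    refine orderOf_eq_prime_pow ?_ ?_
    · rw [hpk, pow_mul, hcx x hx i]
      intro h2
      have := hu x hx
      rw [show u x = 1 from h2, orderOf_one] at this
      exact hp.ne_one this.symm
    · rw [pow_succ', pow_mul, hcx x hx i]
      exact orderOf_dvd_iff_pow_eq_one.1 (dvd_of_eq hx)
  let φ : {x : G // orderOf x = p ^ k} × Fin p → {z : G // orderOf z = p ^ (k + 1)} := fun a =>
    ⟨r a.1 a.1.2 * u a.1 ^ (a.2 : ℕ), hroot' a.1 a.1.2 _⟩
  have hinj : Function.Injective φ := by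
    rintro ⟨⟨x, hx⟩, i⟩ ⟨⟨x', hx'⟩, i'⟩ h
    have h0 : r x hx * u x ^ (i : ℕ) = r x' hx' * u x' ^ (i' : ℕ) := congrArg Subtype.val h
    have hxx : x = x' := by rw [← hcx x hx i, h0, hcx]
    subst hxx
    have hi : (i : ℕ) = i' := pow_injOn_Iio_orderOf (x := u x)
      (Set.mem_Iio.2 ((hu x hx).symm ▸ i.2)) (Set.mem_Iio.2 ((hu x hx).symm ▸ i'.2))
      (mul_left_cancel h0)
    rw [Fin.ext hi]
  have := Nat.card_le_card_of_injective φ hinj
  rwa [Nat.card_prod, Nat.card_fin, mul_comm] at this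

end Cfsg.Agent.NSEAlt69
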