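import Mathlib
import Cfsg.Agent.NSEAlt69.Basic

/-!
The same-order class sizes of the alternating groups of degree four, five and six.
-/

set_option autoImplicit false
set_option maxRecDepth 20000
set_option linter.style.haveILetI false

namespace Cfsg.Agent.NSEAlt69

open Cfsg.Agent.FGS76

theorem ordCount_prime_eq {A : Type*} [Group A] [Fintype A] [DecidableEq A] {p : ℕ} (hp : p.Prime) :
    ordCount A p = (Finset.univ.filter fun g : A => g ^ p = 1 ∧ g ≠ 1).card := by
  haveI := Fact.mk hp
  rw [ordCount, Nat.card_eq_fintype_card, Fintype.card_subtype]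
  exact congrArg _ (Finset.filter_congr fun g _ => orderOf_eq_prime_iff)

theorem ordCount_four_eq {A : Type*} [Group A] [Fintype A] [DecidableEq A] :
    ordCount A 4 = (Finset.univ.filter fun g : A => g ^ 4 = 1 ∧ g ^ 2 ≠ 1).card := by
  haveI := Fact.mk Nat.prime_two
  rw [ordCount, Nat.card_eq_fintype_card, Fintype.card_subtype]
  refine congrArg _ (Finset.filter_congr fun g _ => ⟨fun h => ?_, fun h => ?_⟩)
  · refine ⟨h ▸ pow_orderOf_eq_one g, fun h2 => ?_⟩
    have := Nat.le_of_dvd (by norm_num) (orderOf_dvd_of_pow_eq_one h2)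
    omega
  · exact orderOf_eq_prime_pow (p := 2) (n := 1) h.2 h.1

theorem ordSet_eq {A : Type*} [Group A] [Finite A] {T : Finset ℕ}
    (h1 : ∀ g : A, orderOf g ∈ T) (h2 : ∀ m ∈ T, ordCount A m ≠ 0) : ordSet A = T := by
  ext m
  exact ⟨fun hm => by obtain ⟨g, rfl⟩ := mem_ordSet.1 hm; exact h1 g, fun hm => mem_iff.2 (h2 m hm)⟩

theorem orderOf_mem {A : Type*} [Group A] {g : A} {T : Finset ℕ}
    (h : ∃ n ∈ T, g ^ n = 1) (hT : ∀ n ∈ T, n.divisors ⊆ T) (h0 : 0 ∉ T) : orderOf g ∈ T := by
  obtain ⟨n, hn, hg⟩ := h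
  exact hT n hn (Nat.mem_divisors.2 ⟨orderOf_dvd_of_pow_eq_one hg, fun e => h0 (e ▸ hn)⟩)

theorem image_four : (ordSet ↥(alternatingGroup (Fin 4))).image
    (ordCount ↥(alternatingGroup (Fin 4))) = ({1, 3, 8} : Finset ℕ) := by
  have h2 : ordCount ↥(alternatingGroup (Fin 4)) 2 = 3 := by
    rw [ordCount_prime_eq Nat.prime_two]; decide +kernel
  have h3 : ordCount ↥(alternatingGroup (Fin 4)) 3 = 8 := by
    rw [ordCount_prime_eq Nat.prime_three]; decide +kernel
  have hS : ordSet ↥(alternatingGroup (Fin 4)) = ({1, 2, 3} : Finset ℕ) := by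
    refine ordSet_eq (fun g => orderOf_mem ?_ (by decide) (by decide)) ?_
    · revert g; decide +kernel
    · simp [ordCount_one, h2, h3]
  rw [hS]; simp [ordCount_one, h2, h3]

theorem image_five : (ordSet ↥(alternatingGroup (Fin 5))).image
    (ordCount ↥(alternatingGroup (Fin 5))) = ({1, 15, 20, 24} : Finset ℕ) := by
  have h2 : ordCount ↥(alternatingGroup (Fin 5)) 2 = 15 := by
    rw [ordCount_prime_eq Nat.prime_two]; decide +kernel
  have h3 : ordCount ↥(alternatingGroup (Fin 5)) 3 = 20 := by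
    rw [ordCount_prime_eq Nat.prime_three]; decide +kernel
  have h5 : ordCount ↥(alternatingGroup (Fin 5)) 5 = 24 := by
    rw [ordCount_prime_eq Nat.prime_five]; decide +kernel
  have hS : ordSet ↥(alternatingGroup (Fin 5)) = ({1, 2, 3, 5} : Finset ℕ) := by
    refine ordSet_eq (fun g => orderOf_mem ?_ (by decide) (by decide)) ?_
    · revert g; decide +kernel
    · simp [ordCount_one, h2, h3, h5]
  rw [hS]; simp [ordCount_one, h2, h3, h5]

set_option maxHeartbeats 1000000 in
theorem image_six : (ordSet ↥(alternatingGroup (Fin 6))).image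
    (ordCount ↥(alternatingGroup (Fin 6))) = ({1, 45, 80, 90, 144} : Finset ℕ) := by
  have h2 : ordCount ↥(alternatingGroup (Fin 6)) 2 = 45 := by
    rw [ordCount_prime_eq Nat.prime_two]; decide +kernel
  have h3 : ordCount ↥(alternatingGroup (Fin 6)) 3 = 80 := by
    rw [ordCount_prime_eq Nat.prime_three]; decide +kernel
  have h4 : ordCount ↥(alternatingGroup (Fin 6)) 4 = 90 := by
    rw [ordCount_four_eq]; decide +kernel
  have h5 : ordCount ↥(alternatingGroup (Fin 6)) 5 = 144 := by
    rw [ordCount_prime_eq Nat.prime_five]; decide +kernel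
  have hS : ordSet ↥(alternatingGroup (Fin 6)) = ({1, 2, 3, 4, 5} : Finset ℕ) := by
    refine ordSet_eq (fun g => orderOf_mem ?_ (by decide) (by decide)) ?_
    · revert g; decide +kernel
    · simp [ordCount_one, h2, h3, h4, h5]
  rw [hS]; simp [ordCount_one, h2, h3, h4, h5]

end Cfsg.Agent.NSEAlt69
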