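import Mathlib
import Cfsg.Agent.NSEAlt69.Basic
import Cfsg.Agent.J2Order38.TNormalizer

/-!
A group with same-order class sizes `{1, 3, 8}` is `A₄`.
-/

set_option autoImplicit false
set_option linter.style.haveILetI false

namespace Cfsg.Agent.NSEAlt69

open Subgroup Cfsg.Agent.FGS76

variable {G : Type*} [Group G] [Finite G]

theorem val_of_image {V : Finset ℕ} (hV : (ordSet G).image (ordCount G) = V) (m : ℕ) :
    ordCount G m = 0 ∨ ordCount G m ∈ V := by
  refine or_iff_not_imp_left.2 fun h => ?_
  rw [← hV]
  exact Finset.mem_image_of_mem _ (mem_iff.2 h)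

theorem exists_of_image {V : Finset ℕ} (hV : (ordSet G).image (ordCount G) = V) {v : ℕ}
    (hv : v ∈ V) : ∃ m ∈ ordSet G, ordCount G m = v := by
  rw [← hV] at hv
  exact Finset.mem_image.1 hv

/-- the only odd value apart from `1` counts the involutions -/
theorem ordCount_two_eq {V : Finset ℕ} (hV : (ordSet G).image (ordCount G) = V) {v : ℕ}
    (hv : v ∈ V) (hodd : ¬ 2 ∣ v) (h1 : v ≠ 1) : ordCount G 2 = v := by
  obtain ⟨m, hm, he⟩ := exists_of_image hV hv
  match m, hm, he with
  | 0, hm, _ => exact absurd (Nat.eq_zero_of_zero_dvd (dvd_card_of_mem_ordSet hm)) Nat.card_pos.ne'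
  | 1, _, he => exact absurd (he.symm.trans ordCount_one) h1
  | 2, _, he => exact he
  | n + 3, _, he => exact absurd (he ▸ even_ordCount (by omega)) hodd

theorem equiv_alt_four (hV : (ordSet G).image (ordCount G) = ({1, 3, 8} : Finset ℕ)) :
    Nonempty (G ≃* alternatingGroup (Fin 4)) := by
  classical
  set f := ordCount G with hf
  have f1 : f 1 = 1 := ordCount_one
  have f2 : f 2 = 3 := ordCount_two_eq hV (by decide) (by decide) (by decide)
  have hval : ∀ m, 3 ≤ m → f m = 0 ∨ f m = 8 := by
    intro m hm
    have := even_ordCount (G := G) hm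
    have := val_of_image hV m
    simp only [Finset.mem_insert, Finset.mem_singleton] at this
    rw [← hf] at *
    omega
  -- the primes
  have hprimes : ∀ p : ℕ, p.Prime → p ∣ Nat.card G → p = 2 ∨ p = 3 := by
    intro p hp hpG
    by_contra hne
    push Not at hne
    have hp3 : 3 ≤ p := by have := hp.two_le; omega
    have h0 := prime_ne_zero hp hpG
    have h8 : f p = 8 := (hval p hp3).resolve_left h0
    have hd := dvd_sum_divisors' h0
    rw [hp.divisors, Finset.sum_pair hp.ne_one.symm, ← hf, f1, h8] at hd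
    have := (Nat.prime_dvd_prime_iff_eq hp Nat.prime_three).1 (hp.dvd_of_dvd_pow (n := 2) hd)
    omega
  have h6 : f 6 = 0 := by
    by_contra h0
    have hd := dvd_sum_divisors' h0
    rw [show Nat.divisors 6 = {1, 2, 3, 6} by decide] at hd
    have h3 := (hval 3 (by norm_num)).resolve_left (ne_zero_of_dvd (by norm_num) h0)
    have h6' := (hval 6 (by norm_num)).resolve_left h0
    simp [← hf, f1, f2, h3, h6'] at hd
  have h8 : f 8 = 0 := by
    by_contra h0
    have hd := dvd_sum_divisors' h0
    rw [show Nat.divisors 8 = {1, 2, 4, 8} by decide] at hd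
    have h4 := (hval 4 (by norm_num)).resolve_left (ne_zero_of_dvd (by norm_num) h0)
    have h8' := (hval 8 (by norm_num)).resolve_left h0
    simp [← hf, f1, f2, h4, h8'] at hd
  have h9 : f 9 = 0 := by
    by_contra h0
    have h9' := (hval 9 (by norm_num)).resolve_left h0
    have := totient_dvd_ordCount (G := G) 9
    rw [← hf, h9', show Nat.totient 9 = 6 by decide] at this
    omega
  have hdiv : ∀ m ∈ ordSet G, m ∣ 12 := order_dvd (by norm_num) fun p hp hpG => by
    rcases hprimes p hp hpG with rfl | rfl
    · rw [show (12 : ℕ) = 2 ^ 2 * 3 by norm_num,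
        Nat.factorization_mul (by norm_num) (by norm_num), Nat.Prime.factorization_pow Nat.prime_two,
        Nat.Prime.factorization Nat.prime_three]
      simpa [Finsupp.single_apply] using h8
    · rw [show (12 : ℕ) = 2 ^ 2 * 3 by norm_num,
        Nat.factorization_mul (by norm_num) (by norm_num), Nat.Prime.factorization_pow Nat.prime_two,
        Nat.Prime.factorization Nat.prime_three]
      simpa [Finsupp.single_apply] using h9
  have hcard : Nat.card G = 4 + f 3 + f 4 := by
    rw [card_eq_sum (T := Nat.divisors 12) fun m hm => Nat.mem_divisors.2 ⟨hdiv m hm, by norm_num⟩,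
      show Nat.divisors 12 = {1, 2, 3, 4, 6, 12} by decide]
    have h12 : f 12 = 0 := eq_zero_of_dvd (show 6 ∣ 12 by norm_num) h6
    simp [← hf, f1, f2, h6, h12]
    omega
  have h8mem : ∃ m ∈ ordSet G, f m = 8 := exists_of_image hV (by decide)
  have h3 : f 3 = 8 := by
    rcases hval 3 le_rfl with h3 | h3
    · exfalso
      rcases hval 4 (by norm_num) with h4 | h4
      · obtain ⟨m, hm, he⟩ := h8mem
        have := hdiv m hm
        have hm' : m ∈ ({1, 2, 3, 4, 6, 12} : Finset ℕ) := by
          rw [show ({1, 2, 3, 4, 6, 12} : Finset ℕ) = Nat.divisors 12 by decide]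
          exact Nat.mem_divisors.2 ⟨this, by norm_num⟩
        simp only [Finset.mem_insert, Finset.mem_singleton] at hm'
        have := eq_zero_of_dvd (G := G) (show 6 ∣ 12 by norm_num) h6
        rcases hm' with rfl | rfl | rfl | rfl | rfl | rfl <;> rw [← hf] at * <;> omega
      · have h12 : 3 ∣ Nat.card G := by rw [hcard, h3, h4]; norm_num
        exact prime_ne_zero Nat.prime_three h12 h3
    · exact h3
  have h4 : f 4 = 0 := by
    rcases hval 4 (by norm_num) with h4 | h4
    · exact h4
    · have := dvd_of_mul_eq_zero (G := G) (m := 4) Nat.prime_three (dvd_card (by rw [← hf, h3]; omega))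
        (by norm_num) (eq_zero_of_dvd (show 6 ∣ 4 * 3 by norm_num) h6)
      rw [← hf, h4] at this
      omega
  have h12 : Nat.card G = 12 := by rw [hcard, h3, h4]
  -- the fours group
  haveI := Fact.mk Nat.prime_two
  obtain ⟨P⟩ := (inferInstance : Nonempty (Sylow 2 G))
  have hP4 : Nat.card (P : Subgroup G) = 4 := by
    rw [Sylow.card_eq_multiplicity, h12, show (12 : ℕ) = 2 ^ 2 * 3 by norm_num,
      Nat.factorization_mul (by norm_num) (by norm_num), Nat.Prime.factorization_pow Nat.prime_two,
      Nat.Prime.factorization Nat.prime_three]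
    simp
  have hne3 : ∀ g ∈ (P : Subgroup G), orderOf g ≠ 3 := fun g hg h => by
    have := orderOf_dvd_natCard (⟨g, hg⟩ : (P : Subgroup G))
    rw [Subgroup.orderOf_mk, h, hP4] at this
    norm_num at this
  have hset : ((P : Subgroup G) : Set G) = {g : G | orderOf g ≠ 3} := by
    refine Set.eq_of_subset_of_ncard_le hne3 ?_ (Set.toFinite _)
    rw [← Nat.card_coe_set_eq, ← Nat.card_coe_set_eq]
    have h1 : Nat.card {g : G | orderOf g ≠ 3} + Nat.card {g : G // orderOf g = 3} = Nat.card G := by
      haveI := Fintype.ofFinite G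
      simp only [Nat.card_eq_fintype_card, Set.coe_ofPred, Fintype.card_subtype]
      rw [add_comm]
      exact Finset.card_filter_add_card_filter_not _
    have h2 : Nat.card {g : G // orderOf g = 3} = 8 := h3
    rw [show Nat.card ((P : Subgroup G) : Set G) = 4 from hP4]
    omega
  haveI : (P : Subgroup G).Normal := ⟨fun n hn g => by
    have h1 : n ∈ {g : G | orderOf g ≠ 3} := hset ▸ hn
    rw [← SetLike.mem_coe, hset, Set.mem_ofPred_eq, ← MulAut.conj_apply, MulEquiv.orderOf_eq]
    exact h1⟩
  refine J2Order38.nonempty_alt_four h12 (P : Subgroup G) hP4 fun c hc => ?_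
  rw [← SetLike.mem_coe, hset]
  intro hc3
  obtain ⟨t, ht⟩ := exists_prime_orderOf_dvd_card' (G := (P : Subgroup G)) 2 (by rw [hP4]; norm_num)
  have hcomm : Commute (t : G) c := mem_centralizer_iff.1 hc t t.2
  refine mem_iff.1 (mem_ordSet.2 ⟨(t : G) * c, ?_⟩) h6
  rw [hcomm.orderOf_mul_eq_mul_orderOf_of_coprime (by rw [Subgroup.orderOf_coe, ht, hc3]; norm_num),
    Subgroup.orderOf_coe, ht, hc3]

end Cfsg.Agent.NSEAlt69
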