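import Mathlib
import Cfsg.Agent.NSEAlt69.Four
import Cfsg.Agent.Recog71.OrderSixty
import Cfsg.Agent.S0494

/-!
A group with same-order class sizes `{1, 15, 20, 24}` is `A₅`.
-/

set_option autoImplicit false
set_option linter.style.haveILetI false

namespace Cfsg.Agent.NSEAlt69

open Subgroup Cfsg.Agent.FGS76

variable {G : Type*} [Group G] [Finite G]

theorem fact_val (p : ℕ) (L : ℕ) {a m : ℕ} (hp : p.Prime) (hL : L = p ^ a * m) (hm : ¬ p ∣ m) :
    L.factorization p = a := by
  have hm0 : m ≠ 0 := fun h => hm (h ▸ dvd_zero p)
  rw [hL, Nat.factorization_mul (pow_ne_zero _ hp.ne_zero) hm0, Finsupp.add_apply,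
    hp.factorization_pow, Finsupp.single_eq_same, Nat.factorization_eq_zero_of_not_dvd hm, add_zero]

set_option maxHeartbeats 1000000 in
theorem card_eq_sixty (hV : (ordSet G).image (ordCount G) = ({1, 15, 20, 24} : Finset ℕ)) :
    Nat.card G = 60 ∧ ordCount G 5 = 24 := by
  classical
  set f := ordCount G with hf
  have f1 : f 1 = 1 := ordCount_one
  have f2 : f 2 = 15 := ordCount_two_eq hV (by decide) (by decide) (by decide)
  have hval : ∀ m, 3 ≤ m → f m = 0 ∨ f m = 20 ∨ f m = 24 := by
    intro m hm
    have := even_ordCount (G := G) hm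
    have := val_of_image hV m
    simp only [Finset.mem_insert, Finset.mem_singleton] at this
    rw [← hf] at *
    omega
  have htot : ∀ m, Nat.totient m ∣ f m := fun m => totient_dvd_ordCount m
  have hdd : ∀ m, f m ≠ 0 → m ∣ ∑ d ∈ m.divisors, f d := fun m h => dvd_sum_divisors' h
  have hprimes : ∀ p : ℕ, p.Prime → p ∣ Nat.card G →
      p = 2 ∨ (p = 3 ∧ f 3 = 20) ∨ (p = 5 ∧ f 5 = 24) := by
    intro p hp hpG
    by_cases hp2 : p = 2
    · exact Or.inl hp2
    have h0 := prime_ne_zero hp hpG
    have hd := hdd p h0
    rw [hp.divisors, Finset.sum_pair hp.ne_one.symm, f1] at hd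
    have ht := htot p
    rw [Nat.totient_prime hp] at ht
    rcases (hval p (by have := hp.two_le; omega)).resolve_left h0 with h | h
    · rw [h] at hd ht
      have hle := Nat.le_of_dvd (by norm_num) hd
      interval_cases p <;> first | omega | (norm_num at hp)
    · rw [h] at hd ht
      have hle := Nat.le_of_dvd (by norm_num) hd
      interval_cases p <;> first | omega | (norm_num at hp)
  have f9' : f 9 = 0 ∨ f 9 = 24 := by
    have := htot 9
    rw [show Nat.totient 9 = 6 by decide] at this
    have := hval 9 (by norm_num)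
    omega
  have f27 : f 27 = 0 := by
    have := htot 27
    rw [show Nat.totient 27 = 18 by decide] at this
    have := hval 27 (by norm_num)
    omega
  have f32 : f 32 = 0 := by
    have := htot 32
    rw [show Nat.totient 32 = 16 by decide] at this
    have := hval 32 (by norm_num)
    omega
  have f25 : f 25 = 0 := by
    by_contra h0
    have := htot 25
    rw [show Nat.totient 25 = 20 by decide] at this
    have h5 := (hval 5 (by norm_num)).resolve_left (ne_zero_of_dvd (by norm_num) h0)
    have := hdd 25 h0
    rw [show Nat.divisors 25 = {1, 5, 25} by decide] at this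
    simp [f1] at this
    have ht5 := htot 5
    have := hdd 5 (ne_zero_of_dvd (by norm_num) h0)
    rw [Nat.prime_five.divisors, Finset.sum_pair (by norm_num), f1] at this
    have := (hval 25 (by norm_num)).resolve_left h0
    omega
  have f15 : f 15 = 0 := by
    by_contra h0
    have := htot 15
    rw [show Nat.totient 15 = 8 by decide] at this
    have hd := hdd 15 h0
    rw [show Nat.divisors 15 = {1, 3, 5, 15} by decide] at hd
    simp [f1] at hd
    have h3 := hprimes 3 Nat.prime_three (dvd_card (ne_zero_of_dvd (show 3 ∣ 15 by norm_num) h0))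
    have h5 := hprimes 5 Nat.prime_five (dvd_card (ne_zero_of_dvd (show 5 ∣ 15 by norm_num) h0))
    have := (hval 15 (by norm_num)).resolve_left h0
    omega
  have f45 : f 45 = 0 := eq_zero_of_dvd (show 15 ∣ 45 by norm_num) f15
  -- element orders divide `720`
  have hdiv : ∀ m ∈ ordSet G, m ∣ 720 := order_dvd (by norm_num) fun p hp hpG => by
    rcases hprimes p hp hpG with rfl | ⟨rfl, -⟩ | ⟨rfl, -⟩
    · rw [fact_val 2 720 (a := 4) (m := 45) hp (by norm_num) (by norm_num)]; exact f32
    · rw [fact_val 3 720 (a := 2) (m := 80) hp (by norm_num) (by norm_num)]; exact f27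
    · rw [fact_val 5 720 (a := 1) (m := 144) hp (by norm_num) (by norm_num)]; exact f25
  -- not nine
  have hno9 : f 3 ≠ 0 → f 9 = 0 ∧ f 3 = 20 ∧ ¬ 3 ^ 2 ∣ Nat.card G := by
    intro h3
    have h3' : f 3 = 20 := by
      rcases hprimes 3 Nat.prime_three (dvd_card h3) with h | h | h <;> omega
    have h9 : f 9 = 0 := by
      by_contra h0
      have hno27 : ¬ 3 ^ (1 + 2) ∣ Nat.card G := fun h => by
        have := dvd_sum_divisors (G := G) h
        rw [show Nat.divisors (3 ^ (1 + 2)) = {1, 3, 9, 27} by decide] at this
        simp [← hf, f1, h3', f27] at this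
        omega
      have := mul_le_of_cyclic (G := G) Nat.prime_three le_rfl hno27 h0
      norm_num [← hf, h3'] at this
      omega
    refine ⟨h9, h3', fun h => ?_⟩
    have := dvd_sum_divisors (G := G) h
    rw [show Nat.divisors (3 ^ 2) = {1, 3, 9} by decide] at this
    simp [← hf, f1, h3', h9] at this
  -- five is an order
  have h5 : f 5 = 24 := by
    by_contra hne
    have h5z : f 5 = 0 := by
      by_contra h0
      rcases hprimes 5 Nat.prime_five (dvd_card h0) with h | h | h <;> omega
    have hz : ∀ k, 5 ∣ k → f k = 0 := fun k hk => eq_zero_of_dvd hk h5z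
    have hsum : Nat.card G = 16 + f 3 + f 4 + f 6 + f 8 + f 9 + f 12 + f 16 + f 18 + f 24 + f 36 +
        f 48 + f 72 + f 144 := by
      rw [card_eq_sum (T := Nat.divisors 144) fun m hm => ?_,
        show Nat.divisors 144 = {1, 2, 3, 4, 6, 8, 9, 12, 16, 18, 24, 36, 48, 72, 144} by decide]
      · simp [← hf, f1, f2]
        omega
      · refine Nat.mem_divisors.2 ⟨?_, by norm_num⟩
        have h720 : m ∣ 5 * 144 := hdiv m hm
        refine Nat.Coprime.dvd_of_dvd_mul_left ?_ h720
        rw [Nat.coprime_comm, Nat.prime_five.coprime_iff_not_dvd]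
        exact fun hd => mem_iff.1 hm (hz m hd)
    rcases eq_or_ne (f 3) 0 with h3 | h3
    · -- a two-group
      have hk : ∀ k, 3 ∣ k → f k = 0 := fun k hk => eq_zero_of_dvd hk h3
      rw [h3, hk 6 (by norm_num), hk 9 (by norm_num), hk 12 (by norm_num), hk 18 (by norm_num),
        hk 24 (by norm_num), hk 36 (by norm_num), hk 48 (by norm_num), hk 72 (by norm_num),
        hk 144 (by norm_num)] at hsum
      simp only [add_zero] at hsum
      have h20 : f 4 = 20 ∨ f 8 = 20 ∨ f 16 = 20 := by
        obtain ⟨m, hm, he⟩ := exists_of_image hV (show (20 : ℕ) ∈ _ by decide)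
        have h16 : m ∈ Nat.divisors 16 := by
          refine Nat.mem_divisors.2 ⟨?_, by norm_num⟩
          have h720 : m ∣ 45 * 16 := hdiv m hm
          refine Nat.Coprime.dvd_of_dvd_mul_left ?_ h720
          rw [show (45 : ℕ) = 3 * (3 * 5) by norm_num]
          have c3 : Nat.Coprime m 3 := (Nat.prime_three.coprime_iff_not_dvd.2
            fun hd => mem_iff.1 hm (hk m hd)).symm
          have c5 : Nat.Coprime m 5 := (Nat.prime_five.coprime_iff_not_dvd.2
            fun hd => mem_iff.1 hm (hz m hd)).symm
          exact c3.mul_right (c3.mul_right c5)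
        rw [show Nat.divisors 16 = {1, 2, 4, 8, 16} by decide] at h16
        simp only [Finset.mem_insert, Finset.mem_singleton] at h16
        rcases h16 with rfl | rfl | rfl | rfl | rfl <;> rw [← hf] at he <;> omega
      have hpow : Nat.card G ∣ 256 := by
        have hle : Nat.card G ≤ 88 := by
          have := hval 4 (by norm_num); have := hval 8 (by norm_num); have := hval 16 (by norm_num)
          omega
        have hu := Nat.eq_prime_pow_of_unique_prime_dvd (n := Nat.card G) (p := 2) Nat.card_pos.ne'
          fun {d} hd hdG => by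
            rcases hprimes d hd hdG with h | ⟨-, h⟩ | ⟨-, h⟩ <;> omega
        rw [hu, show (256 : ℕ) = 2 ^ 8 by norm_num]
        refine pow_dvd_pow 2 ?_
        by_contra hgt
        have := Nat.pow_le_pow_right (show 2 > 0 by norm_num) (show 7 ≤ (Nat.card G).primeFactorsList.length by omega)
        rw [← hu] at this
        omega
      have := htot 16
      rw [show Nat.totient 16 = 8 by decide] at this
      rcases hval 4 (by norm_num) with a | a | a <;> rcases hval 8 (by norm_num) with b | b | b <;>
        rcases hval 16 (by norm_num) with c | c | c <;>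
        (rw [hsum, a, b, c] at hpow; norm_num at hpow) <;> omega
    · obtain ⟨h9, h3', h9G⟩ := hno9 h3
      have hk : ∀ k, 9 ∣ k → f k = 0 := fun k hk => eq_zero_of_dvd hk h9
      have h3G : 3 ∣ Nat.card G := dvd_card h3
      have t6 : f 6 = 0 ∨ f 6 = 24 := by
        by_contra hn
        have := hdd 6 (by omega)
        rw [show Nat.divisors 6 = {1, 2, 3, 6} by decide] at this
        simp [f1, f2, h3'] at this
        have := hval 6 (by norm_num)
        omega
      have t4 : f 4 = 0 ∨ f 4 = 24 := by
        rcases eq_or_ne (f 12) 0 with h | h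
        · have := dvd_of_mul_eq_zero (G := G) (m := 4) Nat.prime_three h3G (by norm_num) h
          rw [← hf] at this
          have := hval 4 (by norm_num)
          omega
        · have := hdd 12 h
          rw [show Nat.divisors 12 = {1, 2, 3, 4, 6, 12} by decide] at this
          simp [f1, f2, h3'] at this
          have := hval 4 (by norm_num)
          have := (hval 12 (by norm_num)).resolve_left h
          have : f 6 ≠ 0 := ne_zero_of_dvd (by norm_num) h
          omega
      have t12 : f 12 = 0 ∨ f 12 = 24 := by
        by_contra hn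
        have h : f 12 ≠ 0 := by omega
        have := hdd 12 h
        rw [show Nat.divisors 12 = {1, 2, 3, 4, 6, 12} by decide] at this
        simp [f1, f2, h3'] at this
        have := (hval 12 (by norm_num)).resolve_left h
        have : f 6 ≠ 0 := ne_zero_of_dvd (by norm_num) h
        have : f 4 ≠ 0 := ne_zero_of_dvd (by norm_num) h
        omega
      have t24 : f 24 = 0 := by
        by_contra h
        have := hdd 24 h
        rw [show Nat.divisors 24 = {1, 2, 3, 4, 6, 8, 12, 24} by decide] at this
        simp [f1, f2, h3'] at this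
        have := htot 24
        rw [show Nat.totient 24 = 8 by decide] at this
        have := (hval 24 (by norm_num)).resolve_left h
        have : f 4 ≠ 0 := ne_zero_of_dvd (by norm_num) h
        have : f 6 ≠ 0 := ne_zero_of_dvd (by norm_num) h
        have : f 12 ≠ 0 := ne_zero_of_dvd (by norm_num) h
        have := (hval 8 (by norm_num)).resolve_left (ne_zero_of_dvd (by norm_num) h)
        omega
      have t8 : f 8 = 0 ∨ f 8 = 24 := by
        have := dvd_of_mul_eq_zero (G := G) (m := 8) Nat.prime_three h3G (by norm_num) t24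
        rw [← hf] at this
        have := hval 8 (by norm_num)
        omega
      have t16 : f 16 = 0 ∨ f 16 = 24 := by
        have := htot 16
        rw [show Nat.totient 16 = 8 by decide] at this
        have := hval 16 (by norm_num)
        omega
      rw [h3', h9, hk 18 (by norm_num), hk 36 (by norm_num), hk 72 (by norm_num),
        hk 144 (by norm_num), t24, show f 48 = 0 from eq_zero_of_dvd (show 24 ∣ 48 by norm_num) t24]
        at hsum
      -- the value `24` is taken, so the order is at least `60`
      have h24 : 24 ≤ f 4 + f 6 + f 8 + f 12 + f 16 := by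
        obtain ⟨m, hm, he⟩ := exists_of_image hV (show (24 : ℕ) ∈ _ by decide)
        have h720 := Nat.mem_divisors.2 ⟨show m ∣ 144 from
          (Nat.Coprime.dvd_of_dvd_mul_left ((Nat.prime_five.coprime_iff_not_dvd.2
            fun hd => mem_iff.1 hm (hz m hd)).symm) (show m ∣ 5 * 144 from hdiv m hm)), by norm_num⟩
        rw [show Nat.divisors 144 = {1, 2, 3, 4, 6, 8, 9, 12, 16, 18, 24, 36, 48, 72, 144}
          by decide] at h720
        have := hk 18 (by norm_num)
        have := hk 36 (by norm_num)
        have := hk 72 (by norm_num)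
        have := hk 144 (by norm_num)
        have := eq_zero_of_dvd (G := G) (show 24 ∣ 48 by norm_num) t24
        simp only [Finset.mem_insert, Finset.mem_singleton] at h720
        rcases h720 with rfl | rfl | rfl | rfl | rfl | rfl | rfl | rfl | rfl | rfl | rfl | rfl |
          rfl | rfl | rfl <;> rw [← hf] at * <;> omega
      have hpow : Nat.card G ∣ 768 := by
        have h256 : ¬ 2 ^ 9 ∣ Nat.card G := fun h => by
          have := Nat.le_of_dvd Nat.card_pos h
          omega
        rw [← Nat.factorization_le_iff_dvd Nat.card_pos.ne' (by norm_num), Finsupp.le_def]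
        intro p
        by_contra hlt
        have hpf : p ∈ (Nat.card G).factorization.support := Finsupp.mem_support_iff.2 (by omega)
        rw [Nat.support_factorization, Nat.mem_primeFactors] at hpf
        have hd : p ^ ((768 : ℕ).factorization p + 1) ∣ Nat.card G :=
          (pow_dvd_pow p (by omega)).trans (Nat.ordProj_dvd _ p)
        rcases hprimes p hpf.1 hpf.2.1 with rfl | ⟨rfl, -⟩ | ⟨rfl, h⟩
        · rw [fact_val 2 768 (a := 8) (m := 3) hpf.1 (by norm_num) (by norm_num)] at hd
          exact h256 hd
        · rw [fact_val 3 768 (a := 1) (m := 256) hpf.1 (by norm_num) (by norm_num)] at hd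
          exact h9G hd
        · omega
      obtain ⟨j, hj, hj1, hj5⟩ : ∃ j, Nat.card G = 36 + 24 * j ∧ 1 ≤ j ∧ j ≤ 5 :=
        ⟨(Nat.card G - 36) / 24, by omega, by omega, by omega⟩
      rw [hj] at hpow
      interval_cases j <;> norm_num at hpow
  have h5G : 5 ∣ Nat.card G := dvd_card (by rw [← hf, h5]; norm_num)
  -- three is an order
  have h3 : f 3 ≠ 0 := by
    intro h3
    have hk : ∀ k, 3 ∣ k → f k = 0 := fun k hk => eq_zero_of_dvd hk h3
    have t20 : f 20 = 0 := by
      by_contra h
      have := hdd 20 h
      rw [show Nat.divisors 20 = {1, 2, 4, 5, 10, 20} by decide] at this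
      simp [f1, f2, h5] at this
      have := htot 20
      rw [show Nat.totient 20 = 8 by decide] at this
      have := (hval 20 (by norm_num)).resolve_left h
      have := (hval 4 (by norm_num)).resolve_left (ne_zero_of_dvd (by norm_num) h)
      have h10 : f 10 ≠ 0 := ne_zero_of_dvd (by norm_num) h
      have := (hval 10 (by norm_num)).resolve_left h10
      have h' := hdd 10 h10
      rw [show Nat.divisors 10 = {1, 2, 5, 10} by decide] at h'
      simp [f1, f2, h5] at h'
      omega
    have t10 : f 10 = 0 ∨ f 10 = 20 := by
      by_contra hn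
      have := hdd 10 (by omega)
      rw [show Nat.divisors 10 = {1, 2, 5, 10} by decide] at this
      simp [f1, f2, h5] at this
      have := hval 10 (by norm_num)
      omega
    have t4 : f 4 = 0 ∨ f 4 = 20 := by
      have := dvd_of_mul_eq_zero (G := G) (m := 4) Nat.prime_five h5G (by norm_num) t20
      rw [← hf] at this
      have := hval 4 (by norm_num)
      omega
    have t8 : f 8 = 0 ∨ f 8 = 20 := by
      have := dvd_of_mul_eq_zero (G := G) (m := 8) Nat.prime_five h5G (by norm_num)
        (eq_zero_of_dvd (show 20 ∣ 8 * 5 by norm_num) t20)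
      rw [← hf] at this
      have := hval 8 (by norm_num)
      omega
    have t16 : f 16 = 0 := by
      have := dvd_of_mul_eq_zero (G := G) (m := 16) Nat.prime_five h5G (by norm_num)
        (eq_zero_of_dvd (show 20 ∣ 16 * 5 by norm_num) t20)
      rw [← hf] at this
      have := htot 16
      rw [show Nat.totient 16 = 8 by decide] at this
      have := hval 16 (by norm_num)
      omega
    have hT : ∀ m ∈ ordSet G, m ∈ ({1, 2, 4, 5, 8, 10} : Finset ℕ) := by
      intro m hm
      have h80 : m ∈ Nat.divisors 80 := by
        refine Nat.mem_divisors.2 ⟨?_, by norm_num⟩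
        have c3 : Nat.Coprime m 3 := (Nat.prime_three.coprime_iff_not_dvd.2
          fun hd => mem_iff.1 hm (hk m hd)).symm
        exact Nat.Coprime.dvd_of_dvd_mul_left (c3.pow_right 2) (show m ∣ 3 ^ 2 * 80 from hdiv m hm)
      rw [show Nat.divisors 80 = {1, 2, 4, 5, 8, 10, 16, 20, 40, 80} by decide] at h80
      have := mem_iff.1 hm
      have := eq_zero_of_dvd (G := G) (show 20 ∣ 40 by norm_num) t20
      have := eq_zero_of_dvd (G := G) (show 20 ∣ 80 by norm_num) t20
      simp only [Finset.mem_insert, Finset.mem_singleton] at h80 ⊢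
      rcases h80 with rfl | rfl | rfl | rfl | rfl | rfl | rfl | rfl | rfl | rfl <;>
        rw [← hf] at * <;> omega
    have hsum : Nat.card G = 40 + f 4 + f 8 + f 10 := by
      rw [card_eq_sum hT]
      simp [← hf, f1, f2, h5]
      omega
    have h20 : 20 ≤ f 4 + f 8 + f 10 := by
      obtain ⟨m, hm, he⟩ := exists_of_image hV (show (20 : ℕ) ∈ _ by decide)
      have h := hT m hm
      simp only [Finset.mem_insert, Finset.mem_singleton] at h
      rcases h with rfl | rfl | rfl | rfl | rfl | rfl <;> rw [← hf] at * <;> omega
    have hno3 : ¬ 3 ∣ Nat.card G := fun h => prime_ne_zero Nat.prime_three h h3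
    have h16 : 16 ∣ Nat.card G → 16 ∣ 16 + f 4 + f 8 := fun h => by
      have := dvd_sum_divisors (G := G) h
      rw [show Nat.divisors 16 = {1, 2, 4, 8, 16} by decide] at this
      simp [← hf, f1, f2, t16] at this
      omega
    have h8 : f 8 ≠ 0 → 8 ∣ Nat.card G ∧ f 4 ≠ 0 := fun h =>
      ⟨dvd_card h, ne_zero_of_dvd (by norm_num) h⟩
    rw [hsum] at hno3 h16 h8
    omega
  obtain ⟨h9, h3', h9G⟩ := hno9 h3
  have f6 : f 6 = 0 := by
    by_contra h
    have := dvd_of_mul_eq_zero (G := G) (m := 6) Nat.prime_five h5G (by norm_num)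
      (eq_zero_of_dvd (show 15 ∣ 6 * 5 by norm_num) f15)
    have hd := hdd 6 h
    rw [show Nat.divisors 6 = {1, 2, 3, 6} by decide] at hd
    simp [f1, f2, h3'] at hd
    rw [← hf] at this
    have := hval 6 (by norm_num)
    omega
  have hdvd : Nat.card G ∣ 3 * f 3 := card_dvd Nat.prime_three h9G (fun r hr hr3 hrG => by
    rcases hprimes r hr hrG with rfl | ⟨rfl, -⟩ | ⟨rfl, -⟩
    · exact f6
    · exact absurd rfl hr3
    · exact f15) h3
  rw [h3'] at hdvd
  refine ⟨le_antisymm (Nat.le_of_dvd (by norm_num) hdvd) ?_, h5⟩
  have hsub : ({1, 2, 3, 5} : Finset ℕ) ⊆ ordSet G := by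
    intro m hm
    simp only [Finset.mem_insert, Finset.mem_singleton] at hm
    rw [mem_iff, ← hf]
    rcases hm with rfl | rfl | rfl | rfl <;> omega
  rw [card_eq_sum_ordCount]
  refine le_trans (le_of_eq ?_) (Finset.sum_le_sum_of_subset hsub)
  simp [← hf, f1, f2, h3', h5]

theorem equiv_alt_five (hV : (ordSet G).image (ordCount G) = ({1, 15, 20, 24} : Finset ℕ)) :
    Nonempty (G ≃* alternatingGroup (Fin 5)) := by
  classical
  obtain ⟨h60, h5⟩ := card_eq_sixty hV
  haveI := Fact.mk Nat.prime_five
  haveI : IsSimpleGroup G := by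
    refine Recog71.OrderSixty.isSimpleGroup h60 fun P hP => ?_
    haveI := hP
    have hP5 : Nat.card (P : Subgroup G) = 5 := by
      rw [Sylow.card_eq_multiplicity, h60, fact_val 5 60 (a := 1) (m := 12) Nat.prime_five
        (by norm_num) (by norm_num), pow_one]
    have hall : ∀ g : G, orderOf g = 5 → g ∈ (P : Subgroup G) := by
      intro g hg
      rw [← QuotientGroup.eq_one_iff, ← orderOf_eq_one_iff]
      have hidx : (P : Subgroup G).index = 12 := by
        have := (P : Subgroup G).card_mul_index
        rw [hP5, h60] at this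
        omega
      refine Nat.eq_one_of_dvd_coprimes (show Nat.Coprime 5 12 by norm_num)
        (by simpa [hg] using orderOf_map_dvd (QuotientGroup.mk' (P : Subgroup G)) g) ?_
      rw [← hidx, Subgroup.index_eq_card]
      exact orderOf_dvd_natCard _
    have := Nat.card_le_card_of_injective
      (fun g : {g : G // orderOf g = 5} => (⟨g.1, hall g.1 g.2⟩ : (P : Subgroup G)))
      (fun a b h => Subtype.ext (congrArg (fun x : (P : Subgroup G) => (x : G)) h))
    rw [hP5, show Nat.card {g : G // orderOf g = 5} = 24 from h5] at this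
    omega
  exact S0494.result h60

end Cfsg.Agent.NSEAlt69
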