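import Mathlib
import Cfsg.Agent.NSEAlt69.Five
import Cfsg.Agent.S0497

/-!
A group with same-order class sizes `{1, 45, 80, 90, 144}` is `A₆`.
-/

set_option autoImplicit false
set_option linter.style.haveILetI false
set_option linter.unusedSectionVars false

namespace Cfsg.Agent.NSEAlt69

open Subgroup Cfsg.Agent.FGS76

variable {G : Type*} [Group G] [Finite G]

set_option maxHeartbeats 1000000 in
theorem facts_six (hV : (ordSet G).image (ordCount G) = ({1, 45, 80, 90, 144} : Finset ℕ)) :
    Nat.card G = 360 ∧ ordCount G 3 = 80 ∧ ordCount G 5 = 144 ∧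
      ∀ m ∈ ordSet G, m ∈ ({1, 2, 3, 4, 5} : Finset ℕ) := by
  classical
  set f := ordCount G with hf
  have f1 : f 1 = 1 := ordCount_one
  have f2 : f 2 = 45 := ordCount_two_eq hV (by decide) (by decide) (by decide)
  have hval : ∀ m, 3 ≤ m → f m = 0 ∨ f m = 80 ∨ f m = 90 ∨ f m = 144 := by
    intro m hm
    have := even_ordCount (G := G) hm
    have := val_of_image hV m
    simp only [Finset.mem_insert, Finset.mem_singleton] at this
    rw [← hf] at *
    omega
  have htot : ∀ m, Nat.totient m ∣ f m := fun m => totient_dvd_ordCount m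
  have hdd : ∀ m, f m ≠ 0 → m ∣ ∑ d ∈ m.divisors, f d := fun m h => dvd_sum_divisors' h
  have hprimes : ∀ p : ℕ, p.Prime → p ∣ Nat.card G →
      p = 2 ∨ (p = 3 ∧ f 3 = 80) ∨ (p = 5 ∧ f 5 = 144) ∨ (p = 7 ∧ f 7 = 90) := by
    intro p hp hpG
    by_cases hp2 : p = 2
    · exact Or.inl hp2
    have h0 := prime_ne_zero hp hpG
    have hd := hdd p h0
    rw [hp.divisors, Finset.sum_pair hp.ne_one.symm, f1] at hd
    have ht := htot p
    rw [Nat.totient_prime hp] at ht
    rcases (hval p (by have := hp.two_le; omega)).resolve_left h0 with h | h | h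
    all_goals
      rw [h] at hd ht
      have hle := Nat.le_of_dvd (by norm_num) hd
      interval_cases p <;> first | omega | (norm_num at hp)
  have f16 : f 16 = 0 := by
    by_contra h
    have := hdd 16 h
    rw [show Nat.divisors 16 = {1, 2, 4, 8, 16} by decide] at this
    simp [f1, f2] at this
    have := htot 16
    rw [show Nat.totient 16 = 8 by decide] at this
    have := htot 8
    rw [show Nat.totient 8 = 4 by decide] at this
    have := (hval 16 (by norm_num)).resolve_left h
    have := (hval 8 (by norm_num)).resolve_left (ne_zero_of_dvd (by norm_num) h)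
    have h4 : f 4 ≠ 0 := ne_zero_of_dvd (by norm_num) h
    have h' := hdd 4 h4
    rw [show Nat.divisors 4 = {1, 2, 4} by decide] at h'
    simp [f1, f2] at h'
    have := (hval 4 (by norm_num)).resolve_left h4
    omega
  have t4 : f 4 = 0 ∨ f 4 = 90 := by
    by_contra h
    have h' := hdd 4 (by omega)
    rw [show Nat.divisors 4 = {1, 2, 4} by decide] at h'
    simp [f1, f2] at h'
    have := hval 4 (by norm_num)
    omega
  have h16G : ¬ 2 ^ (2 + 2) ∣ Nat.card G := fun h => by
    have := dvd_sum_divisors (G := G) h
    rw [show Nat.divisors (2 ^ (2 + 2)) = {1, 2, 4, 8, 16} by decide] at this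
    simp [← hf, f1, f2, f16] at this
    have := htot 8
    rw [show Nat.totient 8 = 4 by decide] at this
    have := hval 8 (by norm_num)
    have : f 8 ≠ 0 → f 4 ≠ 0 := fun h => ne_zero_of_dvd (by norm_num) h
    omega
  have f8 : f 8 = 0 := by
    by_contra h
    have h4 : f 4 ≠ 0 := ne_zero_of_dvd (by norm_num) h
    have hle := mul_le_of_cyclic (G := G) Nat.prime_two (show 1 ≤ 2 by norm_num) h16G h
    norm_num [← hf, t4.resolve_left h4] at hle
    have := htot 8
    rw [show Nat.totient 8 = 4 by decide] at this
    have := hval 8 (by norm_num)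
    omega
  have f27 : f 27 = 0 := by
    by_contra h
    have := hdd 27 h
    rw [show Nat.divisors 27 = {1, 3, 9, 27} by decide] at this
    simp [f1] at this
    have := htot 27
    rw [show Nat.totient 27 = 18 by decide] at this
    have := htot 9
    rw [show Nat.totient 9 = 6 by decide] at this
    have := (hval 27 (by norm_num)).resolve_left h
    have := (hval 9 (by norm_num)).resolve_left (ne_zero_of_dvd (by norm_num) h)
    rcases hprimes 3 Nat.prime_three (dvd_card (ne_zero_of_dvd (show 3 ∣ 27 by norm_num) h)) with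
      a | ⟨-, a⟩ | a | a <;> omega
  have f9 : f 9 = 0 := by
    by_contra h
    have h3 : f 3 = 80 := by
      rcases hprimes 3 Nat.prime_three (dvd_card (ne_zero_of_dvd (show 3 ∣ 9 by norm_num) h)) with
        a | a | a | a <;> omega
    have ht := htot 9
    rw [show Nat.totient 9 = 6 by decide] at ht
    have hh := (hval 9 (by norm_num)).resolve_left h
    have hno27 : ¬ 3 ^ (1 + 2) ∣ Nat.card G := fun h' => by
      have := dvd_sum_divisors (G := G) h'
      rw [show Nat.divisors (3 ^ (1 + 2)) = {1, 3, 9, 27} by decide] at this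
      simp [← hf, f1, h3, f27] at this
      omega
    have hle := mul_le_of_cyclic (G := G) Nat.prime_three le_rfl hno27 h
    norm_num [← hf, h3] at hle
    omega
  have f25 : f 25 = 0 := by
    by_contra h
    have h5 : f 5 = 144 := by
      rcases hprimes 5 Nat.prime_five (dvd_card (ne_zero_of_dvd (show 5 ∣ 25 by norm_num) h)) with
        a | a | a | a <;> omega
    have ht := htot 25
    rw [show Nat.totient 25 = 20 by decide] at ht
    have hh := (hval 25 (by norm_num)).resolve_left h
    have hno125 : ¬ 5 ^ (1 + 2) ∣ Nat.card G := fun h' => by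
      have := dvd_sum_divisors (G := G) h'
      rw [show Nat.divisors (5 ^ (1 + 2)) = {1, 5, 25, 125} by decide] at this
      simp [← hf, f1, h5] at this
      have h'' := htot 125
      rw [show Nat.totient 125 = 100 by decide] at h''
      have := hval 125 (by norm_num)
      omega
    have hle := mul_le_of_cyclic (G := G) Nat.prime_five le_rfl hno125 h
    norm_num [← hf, h5] at hle
    omega
  have h25G : ¬ 5 ^ 2 ∣ Nat.card G := fun h => by
    have := dvd_sum_divisors (G := G) h
    rw [show Nat.divisors (5 ^ 2) = {1, 5, 25} by decide] at this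
    simp [← hf, f1, f25] at this
    rcases hprimes 5 Nat.prime_five ((dvd_pow_self 5 two_ne_zero).trans h) with a | a | a | a <;>
      omega
  have f49 : f 49 = 0 := by
    have := htot 49
    rw [show Nat.totient 49 = 42 by decide] at this
    have := hval 49 (by norm_num)
    omega
  -- seven is not an order
  have f7 : f 7 = 0 := by
    by_contra h7
    have h7G : 7 ∣ Nat.card G := dvd_card h7
    have h7' : f 7 = 90 := by
      rcases hprimes 7 (by norm_num) h7G with a | a | a | a <;> omega
    have h5 : f 5 = 0 := by
      by_contra h5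
      have h5' : f 5 = 144 := by
        rcases hprimes 5 Nat.prime_five (dvd_card h5) with a | a | a | a <;> omega
      have h35 : f 35 = 0 := by
        by_contra h
        have := hdd 35 h
        rw [show Nat.divisors 35 = {1, 5, 7, 35} by decide] at this
        simp [f1, h5', h7'] at this
        have ht := htot 35
        rw [show Nat.totient 35 = 24 by decide] at ht
        have := (hval 35 (by norm_num)).resolve_left h
        omega
      have := dvd_of_mul_eq_zero (G := G) (m := 5) (p := 7) (by norm_num) h7G (by norm_num) h35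
      rw [← hf, h5'] at this
      omega
    have h4 : f 4 = 0 := by
      rcases t4 with a | a
      · exact a
      · have h28 : f 28 = 0 := by
          by_contra h
          have := hdd 28 h
          rw [show Nat.divisors 28 = {1, 2, 4, 7, 14, 28} by decide] at this
          simp [f1, f2, h7', a] at this
          have := htot 28
          rw [show Nat.totient 28 = 12 by decide] at this
          have := (hval 28 (by norm_num)).resolve_left h
          have h14 : f 14 ≠ 0 := ne_zero_of_dvd (by norm_num) h
          have := (hval 14 (by norm_num)).resolve_left h14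
          have := htot 14
          rw [show Nat.totient 14 = 6 by decide] at this
          omega
        have := dvd_of_mul_eq_zero (G := G) (m := 4) (p := 7) (by norm_num) h7G (by norm_num) h28
        rw [← hf, a] at this
        omega
    have h4G : ¬ 4 ∣ Nat.card G := fun h => by
      have := dvd_sum_divisors (G := G) h
      rw [show Nat.divisors 4 = {1, 2, 4} by decide] at this
      simp [← hf, f1, f2, h4] at this
    have hdiv : ∀ m ∈ ordSet G, m ∣ 42 := order_dvd (by norm_num) fun p hp hpG => by
      rcases hprimes p hp hpG with rfl | ⟨rfl, -⟩ | ⟨rfl, h⟩ | ⟨rfl, -⟩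
      · rw [fact_val 2 42 (a := 1) (m := 21) hp (by norm_num) (by norm_num)]; exact h4
      · rw [fact_val 3 42 (a := 1) (m := 14) hp (by norm_num) (by norm_num)]; exact f9
      · omega
      · rw [fact_val 7 42 (a := 1) (m := 6) hp (by norm_num) (by norm_num)]; exact f49
    have h80 : f 3 = 80 := by
      obtain ⟨m, hm, he⟩ := exists_of_image hV (show (80 : ℕ) ∈ _ by decide)
      have h42 := Nat.mem_divisors.2 ⟨hdiv m hm, show (42 : ℕ) ≠ 0 by norm_num⟩
      rw [show Nat.divisors 42 = {1, 2, 3, 6, 7, 14, 21, 42} by decide] at h42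
      have := htot 14; have := htot 21; have := htot 42
      rw [show Nat.totient 14 = 6 by decide] at *
      rw [show Nat.totient 21 = 12 by decide] at *
      rw [show Nat.totient 42 = 12 by decide] at *
      have h6 : f 6 ≠ 80 := fun a => by
        have h' := hdd 6 (by omega)
        rw [show Nat.divisors 6 = {1, 2, 3, 6} by decide] at h'
        simp [f1, f2, a] at h'
        have h3 : f 3 ≠ 0 := ne_zero_of_dvd (show 3 ∣ 6 by norm_num) (by rw [← hf]; omega)
        rcases hprimes 3 Nat.prime_three (dvd_card h3) with b | b | b | b <;> omega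
      simp only [Finset.mem_insert, Finset.mem_singleton] at h42
      rcases h42 with rfl | rfl | rfl | rfl | rfl | rfl | rfl | rfl <;> rw [← hf] at * <;> omega
    have h3G : 3 ∣ Nat.card G := dvd_card (by rw [← hf, h80]; norm_num)
    have h14 : f 14 = 144 := by
      have h' := dvd_of_mul_eq_zero (G := G) (m := 2) (p := 7) (by norm_num) h7G (by norm_num)
      rw [← hf, f2] at h'
      have h0 : f 14 ≠ 0 := fun e => by have := h' e; omega
      have h' := hdd 14 h0
      rw [show Nat.divisors 14 = {1, 2, 7, 14} by decide] at h'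
      simp [f1, f2, h7'] at h'
      have := (hval 14 (by norm_num)).resolve_left h0
      omega
    have h21 : f 21 = 144 := by
      have h' := dvd_of_mul_eq_zero (G := G) (m := 3) (p := 7) (by norm_num) h7G (by norm_num)
      rw [← hf, h80] at h'
      have h0 : f 21 ≠ 0 := fun e => by have := h' e; omega
      have := htot 21
      rw [show Nat.totient 21 = 12 by decide] at this
      have := (hval 21 (by norm_num)).resolve_left h0
      omega
    have hsum : Nat.card G = 504 + f 6 + f 42 := by
      rw [card_eq_sum (T := Nat.divisors 42) fun m hm => Nat.mem_divisors.2 ⟨hdiv m hm, by norm_num⟩,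
        show Nat.divisors 42 = {1, 2, 3, 6, 7, 14, 21, 42} by decide]
      simp [← hf, f1, f2, h7', h80, h14, h21]
      omega
    rcases eq_or_ne (f 42) 0 with h42 | h42
    · have h' := dvd_of_mul_eq_zero (G := G) (m := 6) (p := 7) (by norm_num) h7G (by norm_num) h42
      rw [← hf] at h'
      have := hval 6 (by norm_num)
      rw [hsum] at h4G h7G
      omega
    · have h' := hdd 42 h42
      rw [show Nat.divisors 42 = {1, 2, 3, 6, 7, 14, 21, 42} by decide] at h'
      simp [f1, f2, h7', h80, h14, h21] at h'
      have := htot 42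
      rw [show Nat.totient 42 = 12 by decide] at this
      have := (hval 42 (by norm_num)).resolve_left h42
      have := hval 6 (by norm_num)
      rw [hsum] at h7G h4G
      omega
  have hprimes' : ∀ p : ℕ, p.Prime → p ∣ Nat.card G →
      p = 2 ∨ (p = 3 ∧ f 3 = 80) ∨ (p = 5 ∧ f 5 = 144) := fun p hp hpG => by
    rcases hprimes p hp hpG with a | a | a | ⟨-, a⟩
    · exact Or.inl a
    · exact Or.inr (Or.inl a)
    · exact Or.inr (Or.inr a)
    · omega
  have f15 : f 15 = 0 := by
    by_contra h
    have := hdd 15 h
    rw [show Nat.divisors 15 = {1, 3, 5, 15} by decide] at this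
    simp [f1] at this
    have := htot 15
    rw [show Nat.totient 15 = 8 by decide] at this
    have := (hval 15 (by norm_num)).resolve_left h
    have h3 := hprimes' 3 Nat.prime_three (dvd_card (ne_zero_of_dvd (show 3 ∣ 15 by norm_num) h))
    have h5 := hprimes' 5 Nat.prime_five (dvd_card (ne_zero_of_dvd (show 5 ∣ 15 by norm_num) h))
    omega
  have hdiv : ∀ m ∈ ordSet G, m ∈ ({1, 2, 3, 4, 5, 6, 10, 12, 20} : Finset ℕ) := by
    have h : ∀ m ∈ ordSet G, m ∣ 60 := order_dvd (by norm_num) fun p hp hpG => by
      rcases hprimes' p hp hpG with rfl | ⟨rfl, -⟩ | ⟨rfl, -⟩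
      · rw [fact_val 2 60 (a := 2) (m := 15) hp (by norm_num) (by norm_num)]; exact f8
      · rw [fact_val 3 60 (a := 1) (m := 20) hp (by norm_num) (by norm_num)]; exact f9
      · rw [fact_val 5 60 (a := 1) (m := 12) hp (by norm_num) (by norm_num)]; exact f25
    intro m hm
    have h60 := Nat.mem_divisors.2 ⟨h m hm, show (60 : ℕ) ≠ 0 by norm_num⟩
    rw [show Nat.divisors 60 = {1, 2, 3, 4, 5, 6, 10, 12, 15, 20, 30, 60} by decide] at h60
    have hne := mem_iff.1 hm
    have e30 : f 30 = 0 := eq_zero_of_dvd (show 15 ∣ 30 by norm_num) f15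
    have e60 : f 60 = 0 := eq_zero_of_dvd (show 15 ∣ 60 by norm_num) f15
    simp only [Finset.mem_insert, Finset.mem_singleton] at h60 ⊢
    rcases h60 with rfl | rfl | rfl | rfl | rfl | rfl | rfl | rfl | rfl | rfl | rfl | rfl <;>
      rw [← hf] at * <;> omega
  have hsum : Nat.card G = 46 + f 3 + f 4 + f 5 + f 6 + f 10 + f 12 + f 20 := by
    rw [card_eq_sum hdiv]
    simp [← hf, f1, f2]
    omega
  have t6 : f 6 ≠ 0 → (f 3 = 80 ∧ (f 6 = 90 ∨ f 6 = 144)) := fun h => by
    have h3 : f 3 = 80 := by
      rcases hprimes' 3 Nat.prime_three (dvd_card (ne_zero_of_dvd (show 3 ∣ 6 by norm_num) h)) with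
        a | a | a <;> omega
    have := hdd 6 h
    rw [show Nat.divisors 6 = {1, 2, 3, 6} by decide] at this
    simp [f1, f2, h3] at this
    have := (hval 6 (by norm_num)).resolve_left h
    omega
  have t12 : f 12 ≠ 0 → (f 4 = 90 ∧ f 6 = 144 ∧ f 12 = 144) := fun h => by
    have h4 : f 4 = 90 := t4.resolve_left (ne_zero_of_dvd (by norm_num) h)
    obtain ⟨h3, h6⟩ := t6 (ne_zero_of_dvd (show 6 ∣ 12 by norm_num) h)
    have := hdd 12 h
    rw [show Nat.divisors 12 = {1, 2, 3, 4, 6, 12} by decide] at this
    simp [f1, f2, h3, h4] at this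
    have := htot 12
    rw [show Nat.totient 12 = 4 by decide] at this
    have := (hval 12 (by norm_num)).resolve_left h
    omega
  have t10 : f 10 ≠ 0 → (f 5 = 144 ∧ f 10 = 80) := fun h => by
    have h5 : f 5 = 144 := by
      rcases hprimes' 5 Nat.prime_five (dvd_card (ne_zero_of_dvd (show 5 ∣ 10 by norm_num) h)) with
        a | a | a <;> omega
    have := hdd 10 h
    rw [show Nat.divisors 10 = {1, 2, 5, 10} by decide] at this
    simp [f1, f2, h5] at this
    have := htot 10
    rw [show Nat.totient 10 = 4 by decide] at this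
    have := (hval 10 (by norm_num)).resolve_left h
    omega
  have t20 : f 20 ≠ 0 → (f 4 = 90 ∧ f 10 = 80 ∧ f 20 = 80) := fun h => by
    have h4 : f 4 = 90 := t4.resolve_left (ne_zero_of_dvd (by norm_num) h)
    obtain ⟨h5, h10⟩ := t10 (ne_zero_of_dvd (show 10 ∣ 20 by norm_num) h)
    have := hdd 20 h
    rw [show Nat.divisors 20 = {1, 2, 4, 5, 10, 20} by decide] at this
    simp [f1, f2, h4, h5, h10] at this
    have := htot 20
    rw [show Nat.totient 20 = 8 by decide] at this
    have := (hval 20 (by norm_num)).resolve_left h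
    omega
  -- all three values are taken
  have hatt : ∀ v ∈ ({1, 45, 80, 90, 144} : Finset ℕ), 45 < v →
      f 3 = v ∨ f 4 = v ∨ f 5 = v ∨ f 6 = v ∨ f 10 = v ∨ f 12 = v ∨ f 20 = v := fun v hv h45 => by
    obtain ⟨m, hm, he⟩ := exists_of_image hV hv
    have h := hdiv m hm
    simp only [Finset.mem_insert, Finset.mem_singleton] at h
    rcases h with rfl | rfl | rfl | rfl | rfl | rfl | rfl | rfl | rfl <;> rw [← hf] at * <;> omega
  have hno7 : ¬ 7 ∣ Nat.card G := fun h => prime_ne_zero (by norm_num) h f7
  have hno11 : ¬ 11 ∣ Nat.card G := fun h => by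
    rcases hprimes' 11 (by norm_num) h with a | a | a <;> omega
  have h3z : 3 ∣ Nat.card G → f 3 = 80 := fun h => by
    rcases hprimes' 3 Nat.prime_three h with a | a | a <;> omega
  have h5z : 5 ∣ Nat.card G → f 5 = 144 := fun h => by
    rcases hprimes' 5 Nat.prime_five h with a | a | a <;> omega
  have h80 := hatt 80 (by decide) (by norm_num)
  have h90 := hatt 90 (by decide) (by norm_num)
  have h144 := hatt 144 (by decide) (by norm_num)
  have h5 : f 5 = 144 := by
    by_contra h5
    have h5G : ¬ 5 ∣ Nat.card G := fun h => h5 (h5z h)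
    have h5' : f 5 = 0 := by
      by_contra h
      exact h5G (dvd_card h)
    rw [hsum] at h5G hno7
    omega
  have h3 : f 3 = 80 := by
    by_contra h3
    have h3G : ¬ 3 ∣ Nat.card G := fun h => h3 (h3z h)
    have h3' : f 3 = 0 := by
      by_contra h
      exact h3G (dvd_card h)
    rw [hsum] at h3G hno11
    omega
  have h5G : 5 ∣ Nat.card G := dvd_card (by rw [← hf, h5]; norm_num)
  have h3G : 3 ∣ Nat.card G := dvd_card (by rw [← hf, h3]; norm_num)
  have e10 : f 10 = 0 := by
    by_contra h
    have := dvd_of_mul_eq_zero (G := G) (m := 10) (p := 3) Nat.prime_three h3G (by norm_num)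
      (eq_zero_of_dvd (show 15 ∣ 10 * 3 by norm_num) f15)
    rw [← hf, (t10 h).2] at this
    omega
  have e20 : f 20 = 0 := eq_zero_of_dvd (show 10 ∣ 20 by norm_num) e10
  have e6 : f 6 = 0 ∨ f 6 = 90 := by
    have := dvd_of_mul_eq_zero (G := G) (m := 6) (p := 5) Nat.prime_five h5G (by norm_num)
      (eq_zero_of_dvd (show 15 ∣ 6 * 5 by norm_num) f15)
    rw [← hf] at this
    by_contra h
    have := (t6 (by omega)).2
    omega
  have e12 : f 12 = 0 := by
    by_contra h
    have := t12 h
    omega
  have hdvd : Nat.card G ∣ 5 * f 5 := card_dvd Nat.prime_five h25G (fun r hr hr5 hrG => by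
    rcases hprimes' r hr hrG with rfl | ⟨rfl, -⟩ | ⟨rfl, -⟩
    · exact e10
    · exact f15
    · exact absurd rfl hr5) (by rw [← hf, h5]; norm_num)
  rw [h5, hsum, h3, h5, e10, e12, e20] at hdvd
  have h450 : f 4 = 0 ∨ f 6 = 0 := by
    by_contra h
    push Not at h
    rw [t4.resolve_left h.1, e6.resolve_left h.2] at hdvd
    norm_num at hdvd
  have h46 : f 6 = 0 := by
    by_contra h
    have h4 : f 4 = 0 := h450.resolve_right h
    have hG : 8 ∣ Nat.card G := by
      rw [hsum, h3, h4, h5, e6.resolve_left h, e10, e12, e20]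
      norm_num
    have := dvd_sum_divisors (G := G) hG
    rw [show Nat.divisors 8 = {1, 2, 4, 8} by decide] at this
    simp [← hf, f1, f2, h4, f8] at this
  refine ⟨by omega, h3, h5, fun m hm => ?_⟩
  have h := hdiv m hm
  have := mem_iff.1 hm
  simp only [Finset.mem_insert, Finset.mem_singleton] at h ⊢
  rcases h with rfl | rfl | rfl | rfl | rfl | rfl | rfl | rfl | rfl <;> rw [← hf] at * <;> omega

theorem mem_of_index {p : ℕ} (N : Subgroup G) [N.Normal] (h : p.Coprime N.index) {g : G}
    (hg : orderOf g = p) : g ∈ N := by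
  rw [← QuotientGroup.eq_one_iff, ← orderOf_eq_one_iff]
  refine Nat.eq_one_of_dvd_coprimes h (by simpa [hg] using orderOf_map_dvd (QuotientGroup.mk' N) g) ?_
  rw [Subgroup.index_eq_card]
  exact orderOf_dvd_natCard _

theorem isSimpleGroup_six (h : Nat.card G = 360) (h3 : ordCount G 3 = 80) (h5 : ordCount G 5 = 144)
    (hS : ∀ m ∈ ordSet G, m ∈ ({1, 2, 3, 4, 5} : Finset ℕ)) : IsSimpleGroup G := by
  classical
  haveI := Fintype.ofFinite G
  haveI : Nontrivial G := Finite.one_lt_card_iff_nontrivial.mp (by omega)
  refine ⟨fun N hN => ?_⟩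
  by_contra hcon
  push Not at hcon
  obtain ⟨hb, ht⟩ := hcon
  have hN1 : Nat.card N ≠ 1 := fun e => hb (Subgroup.eq_bot_of_card_eq N e)
  have hi1 : N.index ≠ 1 := fun e => ht (Subgroup.index_eq_one.1 e)
  have hmul := N.card_mul_index
  rw [h] at hmul
  -- elements of order `p` in `N`
  have hcount : ∀ p : ℕ, Nat.card {x : N // orderOf x = p} ≤ ordCount G p := fun p =>
    Nat.card_le_card_of_injective (fun x : {x : N // orderOf x = p} =>
      (⟨(x.1 : G), by rw [Subgroup.orderOf_coe]; exact x.2⟩ : {g : G // orderOf g = p}))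
      fun a b hab => Subtype.ext (Subtype.ext (congrArg (fun z : {g : G // orderOf g = p} => z.1) hab))
  have hfull : ∀ p : ℕ, p.Coprime N.index → ordCount G p ≤ ordCount N p := fun p hp => by
    refine Nat.card_le_card_of_injective (fun g : {g : G // orderOf g = p} =>
      (⟨⟨g.1, mem_of_index N hp g.2⟩, by rw [Subgroup.orderOf_mk]; exact g.2⟩ :
        {x : N // orderOf x = p})) fun a b hab => Subtype.ext ?_
    exact congrArg (fun z : {x : N // orderOf x = p} => ((z.1 : N) : G)) hab
  have hsumN : ∀ T : Finset ℕ, ∑ m ∈ T, ordCount N m ≤ Nat.card N := fun T => by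
    rw [card_eq_sum (G := N) (T := T ∪ ordSet N) fun m hm => Finset.mem_union_right _ hm]
    exact Finset.sum_le_sum_of_subset Finset.subset_union_left
  have hN135 := hsumN {1, 3, 5}
  simp [ordCount_one, -Nat.card_eq_fintype_card] at hN135
  by_cases hd5 : 5 ∣ Nat.card N
  · -- all elements of order five lie in `N`
    have hc5 : Nat.Coprime 5 N.index := by
      rw [Nat.prime_five.coprime_iff_not_dvd]
      intro h'
      have := Nat.mul_dvd_mul hd5 h'
      rw [hmul] at this
      norm_num at this
    have h1 := hfull 5 hc5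
    rw [h5] at h1
    have hidx : N.index = 2 := by
      have h2 : N.index ≤ 2 := by
        by_contra hlt
        have : Nat.card N * 3 ≤ 360 := hmul ▸ Nat.mul_le_mul_left _ (by omega)
        omega
      have := Nat.pos_of_ne_zero (Subgroup.index_ne_zero_of_finite (H := N))
      omega
    have h2 := hfull 3 (by rw [hidx]; norm_num)
    rw [h3] at h2
    rw [hidx] at hmul
    omega
  · -- a five-element acts without fixed points on `N`
    have hdvd : 5 ∣ Nat.card N - 1 := by
      have hcard : (Finset.univ.filter fun g : G => g ∈ N ∧ g ≠ 1).card = Nat.card N - 1 := by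
        have h1 : (Finset.univ.filter fun g : G => g ∈ N ∧ g ≠ 1) =
            (Finset.univ.filter fun g : G => g ∈ N).erase 1 := by
          ext g
          simp [and_comm]
        have h2 : (Finset.univ.filter fun g : G => g ∈ N).card = Nat.card N := by
          rw [Nat.card_eq_fintype_card (α := N)]
          exact (Fintype.card_subtype fun g : G => g ∈ N).symm
        rw [h1, Finset.card_erase_of_mem (by simp), h2]
      rw [← hcard, Finset.card_eq_sum_ones]
      refine dvd_sum_of_conj_inv _ ?_ (fun _ => 1) (fun _ _ => rfl) ?_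
      · intro g y hy
        simp only [Finset.mem_filter, Finset.mem_univ, true_and] at hy ⊢
        exact ⟨hN.conj_mem y hy.1 g, by simpa using hy.2⟩
      · intro y hy
        simp only [Finset.mem_filter, Finset.mem_univ, true_and] at hy
        rw [mul_one]
        by_contra hpi
        haveI := Fact.mk Nat.prime_five
        have h1 : 5 ∣ Nat.card (centralizer ({y} : Set G)) :=
          (Nat.prime_five.dvd_mul.1 ((Subgroup.card_mul_index (centralizer ({y} : Set G))).symm ▸
            (show 5 ∣ Nat.card G by rw [h]; norm_num))).resolve_right hpi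
        obtain ⟨z, hz⟩ := exists_prime_orderOf_dvd_card' 5 h1
        have hc : Commute (z : G) y := mem_centralizer_singleton_iff.1 z.2
        have hoy : orderOf y ≠ 5 := fun e => hd5 (by
          have h' := orderOf_dvd_natCard (⟨y, hy.1⟩ : N)
          rwa [Subgroup.orderOf_mk, e] at h')
        have hy5 : orderOf y ∈ ({1, 2, 3, 4, 5} : Finset ℕ) := hS _ (mem_ordSet.2 ⟨y, rfl⟩)
        have hy1 : orderOf y ≠ 1 := fun e => hy.2 (orderOf_eq_one_iff.1 e)
        simp only [Finset.mem_insert, Finset.mem_singleton] at hy5
        have hcop : Nat.Coprime 5 (orderOf y) := by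
          rcases hy5 with e | e | e | e | e <;> first | omega | (rw [e]; norm_num)
        have hzy := hS _ (mem_ordSet.2 ⟨(z : G) * y, rfl⟩)
        rw [hc.orderOf_mul_eq_mul_orderOf_of_coprime (by
          rw [Subgroup.orderOf_coe, hz]; exact hcop), Subgroup.orderOf_coe, hz] at hzy
        simp only [Finset.mem_insert, Finset.mem_singleton] at hzy
        omega
    have h72 : Nat.card N ∣ 72 := (Nat.Coprime.dvd_of_dvd_mul_left
      ((Nat.prime_five.coprime_iff_not_dvd.2 hd5).symm) (by rw [show 5 * 72 = 360 by norm_num]; exact ⟨_, hmul.symm⟩))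
    have hNle := Nat.le_of_dvd (by norm_num) h72
    have hcases : Nat.card N = 6 ∨ Nat.card N = 36 := by
      have := Nat.card_pos (α := N)
      interval_cases hk : Nat.card N <;> omega
    rcases hcases with e | e
    · -- order six: two elements of order three, permuted by a five-element
      haveI := Fact.mk Nat.prime_three
      obtain ⟨x, hx⟩ := exists_prime_orderOf_dvd_card' (G := N) 3 (by rw [e]; norm_num)
      have hcard3 : 0 < ordCount N 3 := ordCount_pos (mem_ordSet.2 ⟨x, hx⟩)
      have hev : 2 ∣ ordCount N 3 := even_ordCount le_rfl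
      have h5dvd : 5 ∣ ordCount N 3 := by
        have hcard : ordCount N 3 = (Finset.univ.filter fun g : G => g ∈ N ∧ orderOf g = 3).card := by
          rw [ordCount, ← Fintype.card_subtype, ← Nat.card_eq_fintype_card]
          exact Nat.card_congr
            { toFun := fun x => ⟨(x.1 : G), x.1.2, by rw [Subgroup.orderOf_coe]; exact x.2⟩
              invFun := fun g => ⟨⟨g.1, g.2.1⟩, by rw [Subgroup.orderOf_mk]; exact g.2.2⟩
              left_inv := fun _ => rfl
              right_inv := fun _ => rfl }
        rw [hcard, Finset.card_eq_sum_ones]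
        refine dvd_sum_of_conj_inv _ ?_ (fun _ => 1) (fun _ _ => rfl) ?_
        · intro g y hy
          simp only [Finset.mem_filter, Finset.mem_univ, true_and] at hy ⊢
          exact ⟨hN.conj_mem y hy.1 g, by rw [← MulAut.conj_apply, MulEquiv.orderOf_eq]; exact hy.2⟩
        · intro y hy
          simp only [Finset.mem_filter, Finset.mem_univ, true_and] at hy
          rw [mul_one]
          by_contra hpi
          haveI := Fact.mk Nat.prime_five
          have h1 : 5 ∣ Nat.card (centralizer ({y} : Set G)) :=
            (Nat.prime_five.dvd_mul.1 ((Subgroup.card_mul_index (centralizer ({y} : Set G))).symm ▸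
              (show 5 ∣ Nat.card G by rw [h]; norm_num))).resolve_right hpi
          obtain ⟨z, hz⟩ := exists_prime_orderOf_dvd_card' 5 h1
          have hc : Commute (z : G) y := mem_centralizer_singleton_iff.1 z.2
          have hzy := hS _ (mem_ordSet.2 ⟨(z : G) * y, rfl⟩)
          rw [hc.orderOf_mul_eq_mul_orderOf_of_coprime (by
            rw [Subgroup.orderOf_coe, hz, hy.2]; norm_num), Subgroup.orderOf_coe, hz, hy.2] at hzy
          simp at hzy
      have := hsumN {1, 3}
      simp [ordCount_one, -Nat.card_eq_fintype_card] at this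
      omega
    · have h1 := hfull 3 (by rw [show N.index = 10 by rw [e] at hmul; omega]; norm_num)
      rw [h3] at h1
      omega

theorem equiv_alt_six (hV : (ordSet G).image (ordCount G) = ({1, 45, 80, 90, 144} : Finset ℕ)) :
    Nonempty (G ≃* alternatingGroup (Fin 6)) := by
  obtain ⟨h, h3, h5, hS⟩ := facts_six hV
  haveI := isSimpleGroup_six h h3 h5 hS
  exact S0497.result h

end Cfsg.Agent.NSEAlt69
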